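import Mathlib
import Cfsg.Prelude.Def_Characters
import Cfsg.Prelude.Def_LieExceptional
import Cfsg.Prelude.Def_LieRecognition

/-!
Abstract set-up for the case "point stabiliser has a non-abelian regular normal 2-subgroup" of the
classification of Zassenhaus groups (S1147, S0347). `U` is the Frobenius kernel, `E` the
complement (two-point stabiliser), `Z` the set of involutions of `U` together with `1`.
-/

set_option autoImplicit false

namespace Cfsg.Agent.Zassenhaus.SuzDefs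

/-- Facts about a simple Zassenhaus group whose Frobenius kernel `U` is a non-abelian 2-group. -/
structure Setup {G : Type*} [Group G] (U E Z : Subgroup G) (q h : ℕ) : Prop where
  /-- `U` is a 2-group of order `h` -/
  two_group : IsPGroup 2 U
  card_U : Nat.card U = h
  /-- `E` has order `q - 1` -/
  card_E : Nat.card E + 1 = q
  card_Z : Nat.card Z = q
  card_G : Nat.card G = (h + 1) * h * (q - 1)
  /-- `q` is a power of two, at least four -/
  q_pow : ∃ n, 2 ≤ n ∧ q = 2 ^ n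
  Z_le : Z ≤ U
  mem_Z_iff : ∀ x ∈ U, x ∈ Z ↔ x * x = 1
  sq_mem : ∀ x ∈ U, x * x ∈ Z
  comm_mem : ∀ x ∈ U, ∀ y ∈ U, x * y * x⁻¹ * y⁻¹ ∈ Z
  nonabelian : ∃ x ∈ U, ∃ y ∈ U, x * y ≠ y * x
  /-- the centraliser of an involution of `U` is `U` -/
  cent : ∀ s ∈ Z, s ≠ 1 → Subgroup.centralizer {s} = U
  /-- `U` is a trivial-intersection set with normaliser `U E` -/
  ti : ∀ g : G, g ∉ U ⊔ E → ∀ u ∈ U, g * u * g⁻¹ ∈ U → u = 1
  normal : ∀ g ∈ U ⊔ E, ∀ u ∈ U, g * u * g⁻¹ ∈ U
  disj : U ⊓ E = ⊥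
  /-- `E` is transitive on the involutions of `U` -/
  trans : ∀ s ∈ Z, ∀ t ∈ Z, s ≠ 1 → t ≠ 1 → ∃ k ∈ E, k * s * k⁻¹ = t
  /-- `E` acts fixed point freely on `U` -/
  fpf : ∀ k ∈ E, k ≠ 1 → ∀ u ∈ U, k * u * k⁻¹ = u → u = 1

open scoped Classical in
/-- The sum of the values of `χ` over the subgroup `U`. -/
noncomputable def sumOn {G : Type*} [Group G] [Fintype G] (U : Subgroup G) (χ : G → ℂ) : ℂ :=
  ∑ g : G, if g ∈ U then χ g else 0

open scoped Classical in
theorem sumOn_def {G : Type*} [Group G] [Fintype G] (U : Subgroup G) (χ : G → ℂ) :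
    sumOn U χ = ∑ g : G, if g ∈ U then χ g else 0 := rfl

theorem sumOn_eq {G : Type*} [Group G] [Fintype G] (U : Subgroup G) [Fintype U] (χ : G → ℂ) :
    sumOn U χ = ∑ u : U, χ u := by
  classical
  rw [sumOn_def, ← Finset.sum_filter]
  symm
  apply Finset.sum_bij (fun (u : U) _ => (u : G))
  · intro a _; simp
  · intro a _ b _ h; exact Subtype.ext h
  · intro b hb; exact ⟨⟨b, by simpa using hb⟩, Finset.mem_univ _, rfl⟩
  · intro a _; rfl

/-- The trichotomy for irreducible characters whose restriction to `U` contains the principal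
character: principal, "Steinberg" `St` (degree `h`, zero on `U#`), or degree `h+1` and `1` on
`U#`. -/
structure Tri {G : Type*} [Group G] [Fintype G] (U : Subgroup G) (h : ℕ) (St : G → ℂ) :
    Prop where
  irr : Cfsg.IsIrrCharacter G St
  one : St 1 = h
  zero : ∀ u ∈ U, u ≠ 1 → St u = 0
  tri : ∀ χ : G → ℂ, Cfsg.IsIrrCharacter G χ → sumOn U χ ≠ 0 →
    χ = 1 ∨ χ = St ∨ (χ 1 = h + 1 ∧ ∀ u ∈ U, u ≠ 1 → χ u = 1)

end Cfsg.Agent.Zassenhaus.SuzDefs
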